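import Groth.Agent.QuotScheme.Props
import Groth.Agent.QuotScheme.Criterion
import Groth.Agent.GrpdSplit.FieldPts
import Groth.Agent.GrpField.SchImgExists
import Groth.Agent.EtaPt.UnivHomeo
import Groth.Agent.WeakNorm.Basic
import Mathlib

/-!
Field points of quotients by finite groups, and quotients of stable closed subschemes.
-/

set_option autoImplicit false
set_option linter.style.haveILetI false
set_option backward.isDefEq.respectTransparency false

universe u

open CategoryTheory CategoryTheory.Limits AlgebraicGeometry Polynomial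
open Groth.Agent.QuotScheme

namespace Groth.Agent.QuotClosed

/-- Homomorphisms into a domain agreeing on the invariants differ by a group element. -/
theorem exists_smul_of_eq_invariants {A L : Type u} [CommRing A] [CommRing L] [IsDomain L] {G : Type u} [Group G]
    [Finite G] [MulSemiringAction G A] (φ₁ φ₂ : A →+* L) (h : ∀ a : A, (∀ g : G, g • a = a) → φ₁ a = φ₂ a) :
    ∃ g : G, ∀ a, φ₂ a = φ₁ (g • a) := by
  classical
  haveI := Fintype.ofFinite G
  by_contra H
  push_neg at H
  choose a ha using H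
  let e := Fintype.equivFin G
  let q : G → (A →+* A) := fun g => MulSemiringAction.toRingHom G A g
  let P : A[X] := ∑ g, monomial (e g : ℕ) (a g)
  have hP : ∀ g, P.coeff (e g : ℕ) = a g := fun g => by
    simp only [P, finsetSum_coeff, coeff_monomial]
    rw [Finset.sum_eq_single g]
    · simp
    · intro b _ hb
      rw [if_neg fun he => hb (e.injective (Fin.ext he))]
    · simp
  let F : A[X][X] := ∏ g : G, (X - C (P.map (q g)))
  have hinv : ∀ τ, F.map (mapRingHom (q τ)) = F := fun τ => by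
    show (∏ g : G, (X - C (P.map (q g)))).map (mapRingHom (q τ)) = _
    rw [Polynomial.map_prod]
    refine Fintype.prod_equiv (Equiv.mulLeft τ) _ _ fun g => ?_
    simp only [Polynomial.map_sub, Polynomial.map_X, Polynomial.map_C, coe_mapRingHom, Polynomial.map_map]
    congr 3
    exact RingHom.ext fun x => (mul_smul τ g x).symm
  have heq : F.map (mapRingHom φ₁) = F.map (mapRingHom φ₂) := by
    ext i j
    simp only [coeff_map, coe_mapRingHom]
    refine h _ fun τ => ?_
    have := congrArg (fun p : A[X][X] => (p.coeff i).coeff j) (hinv τ)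
    simp only [coeff_map, coe_mapRingHom] at this
    exact this
  have h2 := congrArg (Polynomial.eval (P.map φ₂)) heq
  simp only [F, Polynomial.map_prod, Polynomial.map_sub, Polynomial.map_X, Polynomial.map_C, eval_prod, eval_sub,
    eval_X, eval_C, coe_mapRingHom, Polynomial.map_map] at h2
  rw [Finset.prod_eq_zero (s := Finset.univ) (f := fun g => P.map φ₂ - P.map (φ₂.comp (q g))) (Finset.mem_univ 1)
    (by rw [show φ₂.comp (q 1) = φ₂ from RingHom.ext fun x => congrArg φ₂ (one_smul G x), sub_self]),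
    Finset.prod_eq_zero_iff] at h2
  obtain ⟨g, -, hg⟩ := h2
  have h3 := congrArg (fun p : L[X] => p.coeff (e g : ℕ)) (sub_eq_zero.1 hg)
  simp only [coeff_map, hP] at h3
  exact ha g h3

variable {X Y : Scheme.{u}}

theorem exists_hom_affine {L : Type u} [Field L] (x : Spec (CommRingCat.of L) ⟶ X) {U : X.Opens} (hU : IsAffineOpen U)
    (h : x (IsLocalRing.closedPoint L) ∈ U) : ∃ φ : Γ(X, U) ⟶ CommRingCat.of L, x = Spec.map φ ≫ hU.fromSpec := by
  haveI := hU.isOpenImmersion_fromSpec
  have hr : Set.range x ⊆ Set.range hU.fromSpec := by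
    rintro _ ⟨p, rfl⟩
    rw [hU.range_fromSpec, Subsingleton.elim p (IsLocalRing.closedPoint L)]
    exact h
  exact ⟨Spec.preimage (IsOpenImmersion.lift hU.fromSpec x hr),
    by rw [Spec.map_preimage, IsOpenImmersion.lift_fac]⟩

variable {G : Type u} [Group G] [Finite G] {ρ : G →* Aut X} {q : X ⟶ Y}

/-- Field points of `X` with the same image differ by a group element. -/
theorem exists_translate (hq : SGA1.IsQuot ρ q) {L : Type u} [Field L] (x₁ x₂ : Spec (CommRingCat.of L) ⟶ X)
    (h : x₁ ≫ q = x₂ ≫ q) : ∃ g : G, x₁ ≫ (ρ g).hom = x₂ := by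
  haveI := hq.affine
  obtain ⟨U, hU, hyU, -⟩ := exists_affine_nbhd (Y := Y) (O := ⊤) (y := q (x₁ (IsLocalRing.closedPoint L))) trivial
  have hV : IsAffineOpen (q ⁻¹ᵁ U) := hU.preimage q
  have hy₂ : x₂ (IsLocalRing.closedPoint L) ∈ q ⁻¹ᵁ U := by
    show q (x₂ _) ∈ U
    rw [← Scheme.Hom.comp_apply, ← h]
    exact hyU
  obtain ⟨φ₁, rfl⟩ := exists_hom_affine x₁ hV hyU
  obtain ⟨φ₂, rfl⟩ := exists_hom_affine x₂ hV hy₂
  haveI := hU.isOpenImmersion_fromSpec
  haveI := hV.isOpenImmersion_fromSpec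
  rw [Category.assoc, Category.assoc, ← hU.SpecMap_appLE_fromSpec q hV le_rfl, ← Category.assoc, ← Category.assoc,
    cancel_mono, ← Spec.map_comp, ← Spec.map_comp, Spec.map_inj, ← Scheme.Hom.app_eq_appLE] at h
  letI := sectionsAction hq.inv U
  obtain ⟨g, hg⟩ := exists_smul_of_eq_invariants (G := G) φ₁.hom φ₂.hom fun a ha => by
    obtain ⟨r, rfl⟩ := (fixed_iff_mem_range hq U a).2 ha
    exact congr($h r)
  refine ⟨g⁻¹, ?_⟩
  rw [Category.assoc, ← hV.SpecMap_appLE_fromSpec (ρ g⁻¹).hom hV (SGA1.preimage_le_of_inv ρ q hq.inv g⁻¹ U),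
    ← Category.assoc, ← Spec.map_comp]
  congr 2
  ext a
  exact (hg a).symm

theorem exists_lift_point (hq : SGA1.IsQuot ρ q) {L : Type u} [Field L] [IsAlgClosed L]
    (y : Spec (CommRingCat.of L) ⟶ Y) : ∃ x : Spec (CommRingCat.of L) ⟶ X, x ≫ q = y := by
  haveI := hq.affine
  haveI := isIntegralHom hq
  obtain ⟨U, hU, hyU, -⟩ := exists_affine_nbhd (Y := Y) (O := ⊤) (y := y (IsLocalRing.closedPoint L)) trivial
  obtain ⟨σ, rfl⟩ := exists_hom_affine y hU hyU
  letI := (q.app U).hom.toAlgebra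
  haveI : Algebra.IsIntegral Γ(Y, U) Γ(X, q ⁻¹ᵁ U) := ⟨IsIntegralHom.isIntegral_app q U hU⟩
  obtain ⟨σ', hσ'⟩ := WeakNorm.exists_lift (hq.injective U) σ.hom
  refine ⟨Spec.map (CommRingCat.ofHom σ') ≫ (hU.preimage q).fromSpec, ?_⟩
  rw [Category.assoc, ← hU.SpecMap_appLE_fromSpec q (hU.preimage q) le_rfl, ← Category.assoc, ← Spec.map_comp]
  congr 2
  ext a
  rw [← Scheme.Hom.app_eq_appLE]
  exact hσ' a

variable {Z W : Scheme.{u}}

theorem univHomeo_quotient (hquot : SGA1.IsQuot ρ q) (i : Z ⟶ X) [IsClosedImmersion i] (ρZ : G →* Aut Z)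
    (hρZ : ∀ σ : G, (ρZ σ).hom ≫ i = i ≫ (ρ σ).hom) (r : Z ⟶ W) (hr : SGA1.IsQuot ρZ r)
    (m : W ⟶ (i ≫ q).ker.subscheme) (hm : r ≫ m ≫ (i ≫ q).ker.subschemeι = i ≫ q) :
    FlatMor.IsUnivHomeo m ∧ IsSchemeTheoreticallyDominant m := by
  haveI := hquot.affine
  haveI := hr.affine
  haveI := isIntegralHom hquot
  haveI := isIntegralHom hr
  haveI : Surjective r := ⟨surjective hr⟩
  haveI : IsAffineHom (m ≫ (i ≫ q).ker.subschemeι) := (isAffineHom_iff hr hm).1 inferInstance
  haveI hiq : IsIntegralHom (i ≫ q) := inferInstance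
  haveI : IsIntegralHom (m ≫ (i ≫ q).ker.subschemeι) := by
    refine ⟨fun V hV x => ?_⟩
    have hint : IsIntegralHom (r ≫ m ≫ (i ≫ q).ker.subschemeι) := by rw [hm]; exact hiq
    obtain ⟨P, hPm, hP⟩ := hint.isIntegral_app V hV ((r.app _).hom x)
    refine ⟨P, hPm, hr.injective ((m ≫ (i ≫ q).ker.subschemeι) ⁻¹ᵁ V) ?_⟩
    rw [map_zero, Polynomial.hom_eval₂]
    exact hP
  haveI : IsIntegralHom m := IsIntegralHom.of_comp m (i ≫ q).ker.subschemeι
  have hto : r ≫ m = (i ≫ q).toImage := by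
    rw [← cancel_mono (i ≫ q).ker.subschemeι, Category.assoc, hm]
    exact (i ≫ q).toImage_imageι.symm
  have hdom : IsSchemeTheoreticallyDominant (r ≫ m) := by rw [hto]; exact GrpField.SchImg.schDom_toImage _
  haveI : IsSchemeTheoreticallyDominant m := ⟨le_bot_iff.1 ((Scheme.Hom.le_ker_comp r m).trans hdom.ker_eq_bot.le)⟩
  haveI : QuasiCompact m := inferInstance
  haveI : Surjective m := surjective_of_isDominant_of_isClosed_range m m.isClosedMap.isClosed_range
  haveI : UniversallyInjective m := GrpdSplit.universallyInjective_of_field_points m fun K _ a b hab => by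
    let L := AlgebraicClosure K
    let e : Spec (CommRingCat.of L) ⟶ Spec (CommRingCat.of K) := Spec.map (CommRingCat.ofHom (algebraMap K L))
    haveI : Flat e := by
      rw [HasRingHomProperty.Spec_iff (P := @Flat)]
      exact RingHom.flat_algebraMap_iff.2 inferInstance
    haveI : Surjective e := ⟨fun _ => ⟨IsLocalRing.closedPoint L, Subsingleton.elim _ _⟩⟩
    haveI : Epi e := Flat.epi_of_flat_of_surjective e
    rw [← cancel_epi e]
    obtain ⟨z₁, hz₁⟩ := exists_lift_point hr (e ≫ a)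
    obtain ⟨z₂, hz₂⟩ := exists_lift_point hr (e ≫ b)
    have h : (z₁ ≫ i) ≫ q = (z₂ ≫ i) ≫ q := by
      rw [Category.assoc, Category.assoc, ← hm, reassoc_of% hz₁, reassoc_of% hz₂, reassoc_of% hab]
    obtain ⟨g, hg⟩ := exists_translate hquot (z₁ ≫ i) (z₂ ≫ i) h
    rw [Category.assoc, ← hρZ, ← Category.assoc, cancel_mono] at hg
    rw [← hz₁, ← hz₂, ← hg, Category.assoc, hr.inv g]
  exact ⟨EtaPtLib.isUnivHomeo_of_isIntegralHom m, inferInstance⟩

end Groth.Agent.QuotClosed
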